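import Cfsg.Agent.Lib.Layer.Basic

/-!
# A nonabelian minimal normal subgroup as a product of conjugate simple groups

`SimpleConjugates M L`: the conjugates of the simple subgroup `L` generate `M`, are normalized by
`M`, and two distinct ones commute and meet trivially.
-/

set_option autoImplicit false
set_option linter.style.haveILetI false
set_option linter.unusedSectionVars false

open Cfsg

namespace CfsgLib.MinNormal

variable {G : Type*} [Group G]

/-- The conjugate `g L g⁻¹`. -/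
def cj (L : Subgroup G) (g : G) : Subgroup G := L.map (MulAut.conj g).toMonoidHom

theorem mem_cj {L : Subgroup G} {g x : G} : x ∈ cj L g ↔ g⁻¹ * x * g ∈ L := by
  constructor
  · rintro ⟨l, hl, rfl⟩
    simpa [mul_assoc] using hl
  · exact fun h => ⟨_, h, by simp [mul_assoc]⟩

theorem cj_one (L : Subgroup G) : cj L 1 = L := by
  ext x; rw [mem_cj, inv_one, one_mul, mul_one]

theorem cj_mul (L : Subgroup G) (g h : G) : cj (cj L h) g = cj L (g * h) := by
  ext x
  rw [mem_cj, mem_cj, mem_cj, show h⁻¹ * (g⁻¹ * x * g) * h = (g * h)⁻¹ * x * (g * h) by group]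

theorem cj_inj {L L' : Subgroup G} (g : G) (h : cj L g = cj L' g) : L = L' :=
  Subgroup.map_injective (MulAut.conj g).injective h

theorem conj_mem_cj {L : Subgroup G} {g a : G} (ha : a ∈ L) : g * a * g⁻¹ ∈ cj L g := by
  rw [mem_cj]; simpa [mul_assoc] using ha

theorem card_cj (L : Subgroup G) (g : G) : Nat.card (cj L g) = Nat.card L :=
  Subgroup.card_map_of_injective (MulAut.conj g).injective

/-- The conjugates of `L` decompose `M`. -/
structure SimpleConjugates (M L : Subgroup G) : Prop where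
  normal : M.Normal
  le : L ≤ M
  simple : IsSimpleGroup L
  nab : ¬ IsMulCommutative L
  norm : ∀ g, M ≤ Subgroup.normalizer (cj L g : Set G)
  sup : ⨆ g, cj L g = M
  inf : ∀ g h, cj L g ≠ cj L h → cj L g ⊓ cj L h = ⊥
  comm : ∀ g h, cj L g ≠ cj L h → ∀ a ∈ cj L g, ∀ b ∈ cj L h, a * b = b * a

variable [Finite G]

theorem exists_simpleConjugates {M : Subgroup G} [hM : M.Normal]
    (hmin : ∀ N : Subgroup G, N.Normal → N ≠ ⊥ → N ≤ M → N = M) (hna : ¬ IsMulCommutative M) :
    ∃ L, SimpleConjugates M L := by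
  haveI : Finite (Subgroup G) := Finite.of_injective (fun K => (K : Set G)) SetLike.coe_injective
  have hne : M ≠ ⊥ := fun h => hna (by subst h; exact ⟨⟨fun a b => Subsingleton.elim _ _⟩⟩)
  obtain ⟨L, -, ⟨hL0, hLM, hLN⟩, hLmin⟩ :=
    (Set.toFinite {R : Subgroup G | R ≠ ⊥ ∧ R ≤ M ∧ M ≤ Subgroup.normalizer (R : Set G)}).exists_le_minimal
      (show M ∈ _ from ⟨hne, le_rfl, Subgroup.le_normalizer⟩)
  have hcle : ∀ g, cj L g ≤ M := fun g x hx => by
    have h := hM.conj_mem _ (hLM (mem_cj.mp hx)) g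
    rwa [show g * (g⁻¹ * x * g) * g⁻¹ = x by group] at h
  have hcN : ∀ g, M ≤ Subgroup.normalizer (cj L g : Set G) := by
    intro g m hm
    rw [Subgroup.mem_normalizer_iff]
    intro x
    rw [mem_cj, mem_cj]
    have h := Subgroup.mem_normalizer_iff.mp (hLN (hM.conj_mem m hm g⁻¹)) (g⁻¹ * x * g)
    rw [show g⁻¹ * m * g⁻¹⁻¹ * (g⁻¹ * x * g) * (g⁻¹ * m * g⁻¹⁻¹)⁻¹ = g⁻¹ * (m * x * m⁻¹) * g by group] at h
    exact h
  have hLmin' : ∀ R : Subgroup G, R ≠ ⊥ → R ≤ L → M ≤ Subgroup.normalizer (R : Set G) → R = L :=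
    fun R h1 h2 h3 => le_antisymm h2 (hLmin ⟨h1, h2.trans hLM, h3⟩ h2)
  have hinf : ∀ g h, cj L g ≠ cj L h → cj L g ⊓ cj L h = ⊥ := by
    intro g h hne'
    by_contra h0
    have key : ∀ g h, cj L g ⊓ cj L h ≠ ⊥ → cj L g ≤ cj L h := by
      intro g h h0
      have h1 : cj L g ⊓ cj L h = cj L g := by
        apply cj_inj g⁻¹
        rw [cj_mul, inv_mul_cancel, cj_one]
        refine hLmin' _ (fun e => h0 ?_) ?_ ?_
        · exact (Subgroup.map_eq_bot_iff_of_injective _ (MulAut.conj g⁻¹).injective).mp e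
        · conv_rhs => rw [← cj_one L, ← inv_mul_cancel g, ← cj_mul]
          exact Subgroup.map_mono inf_le_left
        · intro m hm
          rw [Subgroup.mem_normalizer_iff]
          intro x
          rw [mem_cj, mem_cj, Subgroup.mem_inf, Subgroup.mem_inf]
          have hm' := hM.conj_mem m hm g
          rw [Subgroup.mem_normalizer_iff.mp (hcN g hm') (g⁻¹⁻¹ * x * g⁻¹),
            Subgroup.mem_normalizer_iff.mp (hcN h hm') (g⁻¹⁻¹ * x * g⁻¹),
            show g⁻¹⁻¹ * (m * x * m⁻¹) * g⁻¹ = g * m * g⁻¹ * (g⁻¹⁻¹ * x * g⁻¹) * (g * m * g⁻¹)⁻¹ by group]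
      exact h1 ▸ inf_le_right
    exact hne' (le_antisymm (key g h h0) (key h g (by rwa [inf_comm])))
  have hcomm : ∀ g h, cj L g ≠ cj L h → ∀ a ∈ cj L g, ∀ b ∈ cj L h, a * b = b * a := by
    intro g h hne' a ha b hb
    have h1 : a * b * a⁻¹ * b⁻¹ ∈ cj L g ⊓ cj L h := by
      refine ⟨?_, (cj L h).mul_mem ((Subgroup.mem_normalizer_iff.mp (hcN h (hcle g ha)) b).mp hb) ((cj L h).inv_mem hb)⟩
      rw [show a * b * a⁻¹ * b⁻¹ = a * (b * a⁻¹ * b⁻¹) by group]
      exact (cj L g).mul_mem ha ((Subgroup.mem_normalizer_iff.mp (hcN g (hcle h hb)) a⁻¹).mp ((cj L g).inv_mem ha))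
    rw [hinf g h hne', Subgroup.mem_bot] at h1
    exact commutatorElement_eq_one_iff_mul_comm.mp h1
  have hsup : ⨆ g, cj L g = M := by
    refine hmin _ ⟨fun x hx y => ?_⟩ (fun e => hL0 ?_) (iSup_le hcle)
    · have h1 : (⨆ g, cj L g).map (MulAut.conj y).toMonoidHom ≤ ⨆ g, cj L g := by
        rw [Subgroup.map_iSup]
        exact iSup_le fun g => le_iSup_of_le (y * g) (cj_mul L y g).le
      exact h1 ⟨x, hx, rfl⟩
    · rw [eq_bot_iff, ← e]
      exact le_iSup_of_le 1 (cj_one L).ge
  have hnab : ¬ IsMulCommutative L := by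
    intro hab
    refine hna ⟨⟨fun a b => Subtype.ext ?_⟩⟩
    have hcom : ∀ g h, ∀ x ∈ cj L g, ∀ y ∈ cj L h, x * y = y * x := by
      intro g h x hx y hy
      rcases eq_or_ne (cj L g) (cj L h) with e | e
      · rw [e, mem_cj] at hx
        rw [mem_cj] at hy
        have h1 : h⁻¹ * x * h * (h⁻¹ * y * h) = h⁻¹ * y * h * (h⁻¹ * x * h) :=
          congrArg Subtype.val (hab.is_comm.comm ⟨_, hx⟩ ⟨_, hy⟩)
        calc x * y = h * (h⁻¹ * x * h * (h⁻¹ * y * h)) * h⁻¹ := by group
          _ = _ := by rw [h1]; group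
      · exact hcomm g h e x hx y hy
    have hle : M ≤ Subgroup.centralizer (M : Set G) := by
      conv_lhs => rw [← hsup]
      refine iSup_le fun g x hx => Subgroup.mem_centralizer_iff.mpr fun y hy => ?_
      have h2 : M ≤ Subgroup.centralizer ({x} : Set G) := by
        rw [← hsup]
        exact iSup_le fun h y hy => Subgroup.mem_centralizer_singleton_iff.mpr (hcom g h x hx y hy).symm
      exact Subgroup.mem_centralizer_singleton_iff.mp (h2 hy)
    exact (Subgroup.mem_centralizer_iff.mp (hle a.2) b b.2).symm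
  refine ⟨L, hM, hLM, ?_, hnab, hcN, hsup, hinf, hcomm⟩
  haveI : Nontrivial L := (Subgroup.nontrivial_iff_ne_bot L).mpr hL0
  refine ⟨fun X hX => or_iff_not_imp_left.mpr fun hX0 => ?_⟩
  have h1 : X.map L.subtype = L := by
    refine hLmin' _ (fun e => hX0 ((Subgroup.map_eq_bot_iff_of_injective _ L.subtype_injective).mp e))
      (Subgroup.map_subtype_le X) ?_
    rw [← hsup]
    refine iSup_le fun g => ?_
    rcases eq_or_ne (cj L g) (cj L 1) with e | e
    · rw [e, cj_one]
      intro l hl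
      refine Subgroup.le_normalizer_map L.subtype ⟨⟨l, hl⟩, ?_, rfl⟩
      rw [Subgroup.normalizer_eq_top]; exact Subgroup.mem_top _
    · refine le_trans (fun y hy => ?_) (Subgroup.centralizer_le_normalizer _)
      refine Subgroup.mem_centralizer_iff.mpr fun x hx => ?_
      exact (hcomm g 1 e y hy x (by rw [cj_one]; exact Subgroup.map_subtype_le X hx)).symm
  exact Subgroup.map_injective L.subtype_injective
    ((h1.trans L.range_subtype.symm).trans (MonoidHom.range_eq_map _))

namespace SimpleConjugates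

variable {M L : Subgroup G} (d : SimpleConjugates M L)
include d

theorem cj_le (g : G) : cj L g ≤ M := d.sup ▸ le_iSup (cj L) g

theorem simple_cj (g : G) : IsSimpleGroup (cj L g) :=
  haveI := d.simple
  (L.equivMapOfInjective _ (MulAut.conj g).injective).symm.isSimpleGroup

theorem nab_cj (g : G) : ¬ IsMulCommutative (cj L g) := fun h => d.nab ⟨⟨fun a b => Subtype.ext (by
  have h1 : g * a * g⁻¹ * (g * b * g⁻¹) = g * b * g⁻¹ * (g * a * g⁻¹) :=
    congrArg Subtype.val (h.is_comm.comm ⟨_, conj_mem_cj a.2⟩ ⟨_, conj_mem_cj b.2⟩)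
  show (a : G) * b = b * a
  calc (a : G) * b = g⁻¹ * (g * a * g⁻¹ * (g * b * g⁻¹)) * g := by group
    _ = _ := by rw [h1]; group)⟩⟩

theorem ne_bot (g : G) : cj L g ≠ ⊥ := fun h => d.nab_cj g (by rw [h]; exact ⟨⟨fun a b => Subsingleton.elim _ _⟩⟩)

theorem inf_centralizer (g : G) : cj L g ⊓ Subgroup.centralizer (cj L g : Set G) = ⊥ := by
  haveI := d.simple_cj g
  rcases (Subgroup.center (cj L g)).normal_of_characteristic.eq_bot_or_eq_top with h | h
  · refine (Subgroup.eq_bot_iff_forall _).mpr fun x hx => ?_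
    have h1 : (⟨x, hx.1⟩ : cj L g) ∈ Subgroup.center (cj L g) :=
      Subgroup.mem_center_iff.mpr fun y => Subtype.ext (Subgroup.mem_centralizer_iff.mp hx.2 y y.2)
    rw [h, Subgroup.mem_bot] at h1
    exact congrArg Subtype.val h1
  · exact absurd ⟨⟨fun a b => (Subgroup.mem_center_iff.mp (h.ge (Subgroup.mem_top b)) a)⟩⟩ (d.nab_cj g)

theorem eq_one {g x : G} (h1 : x ∈ cj L g) (h2 : x ∈ Subgroup.centralizer (cj L g : Set G)) : x = 1 := by
  rw [← Subgroup.mem_bot, ← d.inf_centralizer g]; exact ⟨h1, h2⟩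

theorem le_centralizer {g h : G} (hne : cj L g ≠ cj L h) : cj L h ≤ Subgroup.centralizer (cj L g : Set G) :=
  fun b hb => Subgroup.mem_centralizer_iff.mpr fun a ha => d.comm g h hne a ha b hb

/-- Decomposition along one conjugate. -/
theorem decomp (g : G) {m : G} (hm : m ∈ M) :
    ∃ a ∈ cj L g, ∃ k ∈ Subgroup.centralizer (cj L g : Set G), a * k = m := by
  set A := cj L g
  suffices M ≤ A ⊔ Subgroup.centralizer (A : Set G) ⊓ Subgroup.normalizer (A : Set G) by
    have h1 : m ∈ ((A ⊔ Subgroup.centralizer (A : Set G) ⊓ Subgroup.normalizer (A : Set G) : Subgroup G) : Set G) :=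
      this hm
    rw [Subgroup.coe_mul_of_right_le_normalizer_left _ _ inf_le_right] at h1
    obtain ⟨a, ha, k, hk, e⟩ := h1
    exact ⟨a, ha, k, hk.1, e⟩
  rw [← d.sup]
  refine iSup_le fun h => ?_
  rcases eq_or_ne (cj L g) (cj L h) with e | e
  · exact e ▸ le_sup_left
  · exact le_sup_of_le_right (le_inf (d.le_centralizer e) ((d.le_centralizer e).trans (Subgroup.centralizer_le_normalizer _)))

theorem decomp_unique {g a a' k k' : G} (ha : a ∈ cj L g) (ha' : a' ∈ cj L g)
    (hk : k ∈ Subgroup.centralizer (cj L g : Set G)) (hk' : k' ∈ Subgroup.centralizer (cj L g : Set G))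
    (h : a * k = a' * k') : a = a' ∧ k = k' := by
  have e : a'⁻¹ * a = k' * k⁻¹ := by
    rw [eq_mul_inv_iff_mul_eq, mul_assoc, h, inv_mul_cancel_left]
  have h1 := d.eq_one (mul_mem (inv_mem ha') ha) (e ▸ mul_mem hk' (inv_mem hk))
  have h2 := inv_mul_eq_one.mp h1
  exact ⟨h2.symm, mul_left_cancel (h.trans (by rw [h2]))⟩

theorem not_isPGroup {p : ℕ} [Fact p.Prime] (g : G) : ¬ IsPGroup p (cj L g) := by
  intro hp
  haveI := d.simple_cj g
  haveI : Nontrivial (cj L g) := (Subgroup.nontrivial_iff_ne_bot _).mpr (d.ne_bot g)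
  rcases (Subgroup.center (cj L g)).normal_of_characteristic.eq_bot_or_eq_top with h | h
  · exact (Subgroup.nontrivial_iff_ne_bot _).mp hp.center_nontrivial h
  · exact d.nab_cj g ⟨⟨fun a b => (Subgroup.mem_center_iff.mp (h.ge (Subgroup.mem_top b)) a)⟩⟩

theorem isComponent (g : G) : IsComponent (cj L g) := by
  haveI := d.simple_cj g
  haveI : Nontrivial (cj L g) := (Subgroup.nontrivial_iff_ne_bot _).mpr (d.ne_bot g)
  refine ⟨?_, ?_⟩
  · haveI : ((cj L g).subgroupOf M).Normal :=
      (Subgroup.normal_subgroupOf_iff_le_normalizer (d.cj_le g)).mpr (d.norm g)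
    haveI := d.normal
    exact (Subgroup.map_subgroupOf_eq_of_le (d.cj_le g)) ▸
      (inferInstance : ((cj L g).subgroupOf M).Normal).isSubnormal.trans' d.normal.isSubnormal
  · haveI : Group.IsPerfect (cj L g) := ⟨by
      rcases (inferInstance : (commutator (cj L g)).Normal).eq_bot_or_eq_top with h | h
      · exact absurd ⟨⟨fun a b => commutatorElement_eq_one_iff_mul_comm.mp (by
          rw [← Subgroup.mem_bot, ← h]
          exact Subgroup.commutator_mem_commutator (Subgroup.mem_top a) (Subgroup.mem_top b))⟩⟩ (d.nab_cj g)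
      · exact h⟩
    exact Layer.isQuasisimple_of_normal_le_center fun N hN =>
      hN.eq_bot_or_eq_top.symm.imp id fun h => h.le.trans bot_le

end SimpleConjugates

end CfsgLib.MinNormal
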